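import Mathlib.RingTheory.AlgebraicIndependent.Basic
import Mathlib.LinearAlgebra.Span.Basic
import Mathlib.LinearAlgebra.LinearIndependent.Lemmas

set_option linter.unusedSectionVars false
set_option linter.unusedVariables false
set_option linter.unusedSimpArgs false
set_option autoImplicit false
set_option linter.style.haveILetI false
set_option maxHeartbeats 400000

/-!
# Algebraic independence is preserved by an invertible linear change of the family
-/

namespace Groth.Agent.Lib.Helper6.NoName

open MvPolynomial

variable {K L : Type*} [Field K] [Field L] [Algebra K L]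

theorem algebraicIndependent_of_span_eq {m : ℕ} (y t : Fin m → L)
    (hy : AlgebraicIndependent K y) (hli : LinearIndependent K t)
    (hspan : Submodule.span K (Set.range t) = Submodule.span K (Set.range y)) :
    AlgebraicIndependent K t := by
  classical
  have h1 : ∀ i, ∃ c : Fin m → K, ∑ j, c j • y j = t i := by
    intro i
    have : t i ∈ Submodule.span K (Set.range y) := by
      rw [← hspan]
      exact Submodule.subset_span ⟨i, rfl⟩
    exact (Submodule.mem_span_range_iff_exists_fun K).1 this
  have h2 : ∀ j, ∃ c : Fin m → K, ∑ i, c i • t i = y j := by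
    intro j
    have : y j ∈ Submodule.span K (Set.range t) := by
      rw [hspan]
      exact Submodule.subset_span ⟨j, rfl⟩
    exact (Submodule.mem_span_range_iff_exists_fun K).1 this
  choose C hC using h1
  choose D hD using h2
  -- `C D = 1`
  have hCD : ∀ i l, ∑ j, C i j * D j l = if i = l then 1 else 0 := by
    intro i
    have h3 : ∑ l, (∑ j, C i j * D j l) • t l = t i := by
      rw [← hC i]
      simp_rw [← hD, Finset.smul_sum, smul_smul, Finset.sum_smul]
      rw [Finset.sum_comm]
    have h4 : ∑ l, ((∑ j, C i j * D j l) - (if i = l then 1 else 0)) • t l = 0 := by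
      simp_rw [sub_smul]
      rw [Finset.sum_sub_distrib, h3]
      simp
    intro l
    have := Fintype.linearIndependent_iff.1 hli _ h4 l
    exact sub_eq_zero.1 this
  let f : MvPolynomial (Fin m) K →ₐ[K] MvPolynomial (Fin m) K :=
    aeval (fun i => ∑ j, C i j • (X j : MvPolynomial (Fin m) K))
  let g : MvPolynomial (Fin m) K →ₐ[K] MvPolynomial (Fin m) K :=
    aeval (fun j => ∑ l, D j l • (X l : MvPolynomial (Fin m) K))
  have hgf : g.comp f = AlgHom.id K _ := by
    apply MvPolynomial.algHom_ext
    intro i
    show g (f (X i)) = X i
    simp only [f, g, aeval_X, map_sum, map_smul, Finset.smul_sum, smul_smul]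
    rw [Finset.sum_comm]
    simp_rw [← Finset.sum_smul, hCD]
    simp
  have hfinj : Function.Injective f := by
    intro a b hab
    have := congrArg g hab
    have e1 : ∀ a, g (f a) = a := fun a => by
      have := AlgHom.congr_fun hgf a
      simpa using this
    rwa [e1, e1] at this
  have hcomp : (aeval t : MvPolynomial (Fin m) K →ₐ[K] L) = (aeval y).comp f := by
    apply MvPolynomial.algHom_ext
    intro i
    show aeval t (X i) = aeval y (f (X i))
    simp only [f, aeval_X, map_sum, map_smul]
    exact (hC i).symm
  show Function.Injective (aeval t : MvPolynomial (Fin m) K →ₐ[K] L)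
  rw [hcomp, AlgHom.coe_comp]
  exact Function.Injective.comp hy hfinj

end Groth.Agent.Lib.Helper6.NoName
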