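import Groth.Agent.Lib.Helper6.NoName.Fixed
import Groth.Agent.Lib.Helper6.NoName.AlgIndep

set_option linter.unusedSectionVars false
set_option linter.unusedVariables false
set_option linter.unusedSimpArgs false
set_option autoImplicit false
set_option linter.style.haveILetI false
set_option maxHeartbeats 400000

/-!
# The no-name lemma in hom form
-/

namespace Groth.Agent.Lib.Helper6.NoName

variable {k : Type*} [Field k] {Γ : Type*} [Group Γ] [Finite Γ] {K L : Type*} [Field K] [Field L]
  [Algebra k K] [Algebra k L] [Algebra K L] [IsScalarTower k K L]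

theorem noName_hom (ρ : Γ →* (K ≃ₐ[k] K)) (hρ : Function.Injective ρ) (γ : Γ →* (L ≃ₐ[k] L))
    (heq : ∀ g a, γ g (algebraMap K L a) = algebraMap K L (ρ g a))
    {m : ℕ} (ys : Fin m → L) (hai : AlgebraicIndependent K ys)
    (hys : ∀ g j, γ g (ys j) ∈ Submodule.span k (Set.range ys))
    (hgen : ∀ S : Subfield L, (∀ c : K, algebraMap K L c ∈ S) → (∀ j, ys j ∈ S) → S = ⊤) :
    ∃ t : Fin m → L, (∀ g i, γ g (t i) = t i) ∧ AlgebraicIndependent K t ∧
      ∀ a, (∀ g, γ g a = a) →
        a ∈ Subfield.closure (algebraMap K L '' {c | ∀ g, ρ g c = c} ∪ Set.range t) := by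
  letI : MulSemiringAction Γ K := MulSemiringAction.compHom K ρ
  letI : MulSemiringAction Γ L := MulSemiringAction.compHom L γ
  have hsK : ∀ (g : Γ) (a : K), g • a = ρ g a := fun g a => rfl
  have hsL : ∀ (g : Γ) (a : L), g • a = γ g a := fun g a => rfl
  haveI : FaithfulSMul Γ K := ⟨fun {g g'} h => hρ (AlgEquiv.ext fun a => by
    have := h a
    rwa [hsK, hsK] at this)⟩
  have hc : ∀ (g : Γ) (a : K), algebraMap K L (g • a) = g • algebraMap K L a := by
    intro g a
    rw [hsK, hsL, heq]
  have hyK : ∀ (g : Γ) j, g • ys j ∈ Submodule.span K (Set.range ys) := by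
    intro g j
    rw [hsL]
    exact Submodule.span_le_restrictScalars k K _ (hys g j)
  obtain ⟨t, htfix, htli, htspan⟩ := exists_fixed_basis hc ys hai.linearIndependent hyK
  have htai := algebraicIndependent_of_span_eq ys t hai htli htspan
  refine ⟨t, fun g i => htfix g i, htai, ?_⟩
  intro a ha
  exact fixed_mem_closure hc ys t htfix
    (fun j => by rw [htspan]; exact Submodule.subset_span ⟨j, rfl⟩) hgen a (fun g => ha g)

end Groth.Agent.Lib.Helper6.NoName
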