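import Groth.Agent.Lib.Helper6.NoName.Fixed
import Groth.Agent.Lib.Helper6.NoName.AlgIndep
import Groth.Prelude.Def_W4c2brnrinvarInvFld
import Mathlib.RingTheory.AlgebraicIndependent.AlgebraicClosure
import Mathlib.RingTheory.AlgebraicIndependent.Transcendental
import Mathlib.FieldTheory.IntermediateField.Adjoin.Algebra

set_option linter.unusedSectionVars false
set_option linter.unusedVariables false
set_option linter.unusedSimpArgs false
set_option autoImplicit false
set_option linter.style.haveILetI false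
set_option maxHeartbeats 400000

/-!
# The no-name lemma for rational function fields
-/

namespace Groth.Agent.Lib.Helper6.NoName

open InvFld

universe u

variable (k : Type u) [Field k] (n m : ℕ)

/-- the `x`-variables -/
noncomputable abbrev xs : Fin n → Fld (Fin n ⊕ Fin m) k := fun j => InvFld.X (Sum.inl j)

/-- the `y`-variables -/
noncomputable abbrev ys : Fin m → Fld (Fin n ⊕ Fin m) k := fun j => InvFld.X (Sum.inr j)

/-- `k(x)` -/
noncomputable abbrev K0 : IntermediateField k (Fld (Fin n ⊕ Fin m) k) :=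
  IntermediateField.adjoin k (Set.range (xs k n m))

theorem algebraicIndependent_X :
    AlgebraicIndependent k (fun i : Fin n ⊕ Fin m => (InvFld.X i : Fld (Fin n ⊕ Fin m) k)) := by
  have h := (MvPolynomial.algebraicIndependent_X (Fin n ⊕ Fin m) k).map'
    (f := IsScalarTower.toAlgHom k (MvPolynomial (Fin n ⊕ Fin m) k) (Fld (Fin n ⊕ Fin m) k))
    (IsFractionRing.injective _ _)
  exact h

open IntermediateField.algebraAdjoinAdjoin in
theorem algebraicIndependent_ys : AlgebraicIndependent (K0 k n m) (ys k n m) := by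
  have h1 := algebraicIndependent_X k n m
  have h2 : AlgebraicIndependent k (Sum.elim (ys k n m) (xs k n m)) := by
    have := h1.comp (Equiv.sumComm (Fin m) (Fin n)) (Equiv.injective _)
    convert this using 1
    funext i
    rcases i with i | i <;> rfl
  have h3 := (AlgebraicIndependent.sumElim_iff.1 h2).2
  exact h3.extendScalars (K0 k n m)

theorem gen_top (S : Subfield (Fld (Fin n ⊕ Fin m) k))
    (h1 : ∀ c : K0 k n m, (c : Fld (Fin n ⊕ Fin m) k) ∈ S) (h2 : ∀ j, ys k n m j ∈ S) : S = ⊤ := by
  rw [eq_top_iff]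
  intro a _
  have hpoly : ∀ p : MvPolynomial (Fin n ⊕ Fin m) k,
      algebraMap (MvPolynomial (Fin n ⊕ Fin m) k) (Fld (Fin n ⊕ Fin m) k) p ∈ S := by
    intro p
    induction p using MvPolynomial.induction_on with
    | C c =>
      have := h1 (algebraMap k (K0 k n m) c)
      rw [← MvPolynomial.algebraMap_eq, ← IsScalarTower.algebraMap_apply]
      exact this
    | add p q hp hq => rw [map_add]; exact S.add_mem hp hq
    | mul_X p i hp =>
      rw [map_mul]
      refine S.mul_mem hp ?_
      rcases i with i | i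
      · exact h1 ⟨_, IntermediateField.subset_adjoin _ _ ⟨i, rfl⟩⟩
      · exact h2 i
  obtain ⟨p, q, hq, rfl⟩ := IsFractionRing.div_surjective (A := MvPolynomial (Fin n ⊕ Fin m) k) a
  exact S.div_mem (hpoly p) (hpoly q)

variable (G : Subgroup (Fld (Fin n ⊕ Fin m) k ≃ₐ[k] Fld (Fin n ⊕ Fin m) k))
  (hx : ∀ σ ∈ G, ∀ i : Fin n, σ (InvFld.X (Sum.inl i)) ∈
    Submodule.span k (Set.range fun j : Fin n => (InvFld.X (Sum.inl j) : Fld (Fin n ⊕ Fin m) k)))

include hx in
theorem K0_invariant (σ : Fld (Fin n ⊕ Fin m) k ≃ₐ[k] Fld (Fin n ⊕ Fin m) k) (hσ : σ ∈ G)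
    (a : Fld (Fin n ⊕ Fin m) k) (ha : a ∈ K0 k n m) : σ a ∈ K0 k n m := by
  have h1 : K0 k n m ≤ (K0 k n m).comap (σ : Fld (Fin n ⊕ Fin m) k →ₐ[k] Fld (Fin n ⊕ Fin m) k) := by
    rw [IntermediateField.adjoin_le_iff]
    rintro _ ⟨i, rfl⟩
    show σ (xs k n m i) ∈ K0 k n m
    have h2 : Submodule.span k (Set.range (xs k n m)) ≤ (K0 k n m).toSubalgebra.toSubmodule := by
      rw [Submodule.span_le]
      exact IntermediateField.subset_adjoin _ _
    exact h2 (hx σ hσ i)
  exact h1 ha

/-- the restricted action on `k(x)` -/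
@[reducible] noncomputable def actK : MulSemiringAction G (K0 k n m) where
  smul g a := ⟨(g : Fld (Fin n ⊕ Fin m) k ≃ₐ[k] Fld (Fin n ⊕ Fin m) k) a.1,
    K0_invariant k n m G hx g.1 g.2 a.1 a.2⟩
  one_smul a := Subtype.ext rfl
  mul_smul g h a := Subtype.ext rfl
  smul_zero g := Subtype.ext (map_zero _)
  smul_add g a b := Subtype.ext (map_add _ _ _)
  smul_one g := Subtype.ext (map_one _)
  smul_mul g a b := Subtype.ext (map_mul _ _ _)

variable [Finite G]
  (hy : ∀ σ ∈ G, ∀ i : Fin m, σ (InvFld.X (Sum.inr i)) ∈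
    Submodule.span k (Set.range fun j : Fin m => (InvFld.X (Sum.inr j) : Fld (Fin n ⊕ Fin m) k)))
  (hfaith : ∀ σ ∈ G, (∀ i : Fin n, σ (InvFld.X (Sum.inl i)) = InvFld.X (Sum.inl i)) → σ = 1)

include hx hy hfaith in
theorem noName :
    ∃ t : Fin m → Fld (Fin n ⊕ Fin m) k,
      AlgebraicIndependent (↥(K0 k n m ⊓ IntermediateField.fixedField G)) t ∧
      IntermediateField.restrictScalars k (IntermediateField.adjoin
        (↥(K0 k n m ⊓ IntermediateField.fixedField G)) (Set.range t)) =
        IntermediateField.fixedField G := by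
  classical
  letI : MulSemiringAction G (K0 k n m) := actK k n m G hx
  have hsmulK : ∀ (g : G) (a : K0 k n m),
      ((g • a : K0 k n m) : Fld (Fin n ⊕ Fin m) k)
        = (g : Fld (Fin n ⊕ Fin m) k ≃ₐ[k] Fld (Fin n ⊕ Fin m) k) a.1 := fun g a => rfl
  have hsmulL : ∀ (g : G) (a : Fld (Fin n ⊕ Fin m) k),
      g • a = (g : Fld (Fin n ⊕ Fin m) k ≃ₐ[k] Fld (Fin n ⊕ Fin m) k) a := fun g a => rfl
  haveI : FaithfulSMul G (K0 k n m) := ⟨fun {g h} hgh => by
    have h1 : (h⁻¹ * g : G) = 1 := by
      apply Subtype.ext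
      apply hfaith _ (h⁻¹ * g).2
      intro i
      have h2 := congrArg Subtype.val
        (hgh ⟨xs k n m i, IntermediateField.subset_adjoin _ _ ⟨i, rfl⟩⟩)
      rw [hsmulK, hsmulK] at h2
      show ((h⁻¹ * g : G) : Fld (Fin n ⊕ Fin m) k ≃ₐ[k] Fld (Fin n ⊕ Fin m) k) (xs k n m i) = _
      rw [Subgroup.coe_mul, AlgEquiv.mul_apply, h2, Subgroup.coe_inv]
      exact (h : Fld (Fin n ⊕ Fin m) k ≃ₐ[k] Fld (Fin n ⊕ Fin m) k).symm_apply_apply _
    have := mul_eq_one_iff_eq_inv.1 h1
    rw [inv_mul_eq_one] at h1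
    exact h1.symm⟩
  have hc : ∀ (g : G) (a : K0 k n m),
      algebraMap (K0 k n m) (Fld (Fin n ⊕ Fin m) k) (g • a)
        = g • algebraMap (K0 k n m) (Fld (Fin n ⊕ Fin m) k) a := fun g a => rfl
  have hyK : ∀ (g : G) j, g • ys k n m j ∈ Submodule.span (K0 k n m) (Set.range (ys k n m)) := by
    intro g j
    have h1 := hy g.1 g.2 j
    exact Submodule.span_le_restrictScalars k (K0 k n m) _ h1
  have hai := algebraicIndependent_ys k n m
  obtain ⟨t, htfix, htli, htspan⟩ := exists_fixed_basis hc (ys k n m) hai.linearIndependent hyK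
  have htai := algebraicIndependent_of_span_eq (ys k n m) t hai htli htspan
  refine ⟨t, ?_, ?_⟩
  · letI : Algebra (↥(K0 k n m ⊓ IntermediateField.fixedField G)) (K0 k n m) :=
      (IntermediateField.inclusion (inf_le_left :
        K0 k n m ⊓ IntermediateField.fixedField G ≤ K0 k n m)).toRingHom.toAlgebra
    haveI : IsScalarTower (↥(K0 k n m ⊓ IntermediateField.fixedField G)) (K0 k n m)
        (Fld (Fin n ⊕ Fin m) k) := IsScalarTower.of_algebraMap_eq (fun _ => rfl)
    exact htai.restrictScalars (RingHom.injective _)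
  · ext a
    rw [IntermediateField.mem_restrictScalars, IntermediateField.mem_fixedField_iff]
    constructor
    · intro ha
      have h1 : a ∈ Subfield.closure
          (Set.range (algebraMap (↥(K0 k n m ⊓ IntermediateField.fixedField G))
            (Fld (Fin n ⊕ Fin m) k)) ∪ Set.range t) := ha
      have h2 : Subfield.closure
          (Set.range (algebraMap (↥(K0 k n m ⊓ IntermediateField.fixedField G))
            (Fld (Fin n ⊕ Fin m) k)) ∪ Set.range t)
          ≤ (IntermediateField.fixedField G).toSubfield := by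
        rw [Subfield.closure_le]
        rintro _ (⟨c, rfl⟩ | ⟨i, rfl⟩)
        · exact c.2.2
        · show t i ∈ IntermediateField.fixedField G
          rw [IntermediateField.mem_fixedField_iff]
          intro f hf
          exact htfix ⟨f, hf⟩ i
      have h3 : a ∈ IntermediateField.fixedField G := h2 h1
      exact (IntermediateField.mem_fixedField_iff _ _).1 h3
    · intro ha
      have h1 := fixed_mem_closure hc (ys k n m) t htfix
        (fun j => by rw [htspan]; exact Submodule.subset_span ⟨j, rfl⟩)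
        (gen_top k n m) a (fun g => ha g.1 g.2)
      show a ∈ Subfield.closure
          (Set.range (algebraMap (↥(K0 k n m ⊓ IntermediateField.fixedField G))
            (Fld (Fin n ⊕ Fin m) k)) ∪ Set.range t)
      refine Subfield.closure_mono ?_ h1
      apply Set.union_subset_union_left
      rintro _ ⟨c, hcfix, rfl⟩
      refine ⟨⟨(c : Fld (Fin n ⊕ Fin m) k), c.2, ?_⟩, rfl⟩
      rw [SetLike.mem_coe, IntermediateField.mem_fixedField_iff]
      intro f hf
      exact congrArg Subtype.val (hcfix ⟨f, hf⟩)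

end Groth.Agent.Lib.Helper6.NoName
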