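import Groth.Agent.Lib.Helper6.GalDescent2
import Mathlib.FieldTheory.Fixed
import Mathlib.FieldTheory.Galois.Basic

set_option linter.unusedSectionVars false
set_option linter.unusedVariables false
set_option linter.unusedSimpArgs false
set_option autoImplicit false
set_option linter.style.haveILetI false
set_option maxHeartbeats 400000

/-!
# Speiser descent for a finite group acting on a field extension `L / K`

`G` finite, acting on `K` faithfully and on `L` compatibly; `Y ⊆ L` a finite-dimensional `G`-stable
`K`-subspace.  Then `Y` has a `K`-basis of `G`-fixed vectors.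
-/

namespace Groth.Agent.Lib.Helper6.NoName

open Groth.Agent.Helper6.GalDescent

variable {G : Type*} [Group G] [Finite G] {K L : Type*} [Field K] [Field L] [Algebra K L]
  [MulSemiringAction G K] [MulSemiringAction G L]
  (hc : ∀ (g : G) (a : K), algebraMap K L (g • a) = g • algebraMap K L a)

include hc in
theorem smul_smul_compat (g : G) (c : K) (v : L) : g • (c • v) = (g • c) • (g • v) := by
  rw [Algebra.smul_def, Algebra.smul_def, smul_mul', hc]

include hc in
theorem smul_mem_span {ι : Type*} (y : ι → L)
    (hy : ∀ (g : G) j, g • y j ∈ Submodule.span K (Set.range y)) (g : G) (v : L)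
    (hv : v ∈ Submodule.span K (Set.range y)) : g • v ∈ Submodule.span K (Set.range y) := by
  induction hv using Submodule.span_induction with
  | mem x hx =>
    obtain ⟨j, rfl⟩ := hx
    exact hy g j
  | zero => rw [smul_zero]; exact Submodule.zero_mem _
  | add x z _ _ hx hz => rw [smul_add]; exact Submodule.add_mem _ hx hz
  | smul c x _ hx => rw [smul_smul_compat hc]; exact Submodule.smul_mem _ _ hx

variable [FaithfulSMul G K]

theorem toAlgAutMulEquiv_apply (g : G) (x : K) :
    FixedPoints.toAlgAutMulEquiv G K g x = g • x := rfl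

theorem toAlgAutMulEquiv_symm_smul (σ : K ≃ₐ[FixedPoints.subfield G K] K) (x : K) :
    (FixedPoints.toAlgAutMulEquiv G K).symm σ • x = σ x := by
  rw [← toAlgAutMulEquiv_apply, MulEquiv.apply_symm_apply]

include hc in
theorem exists_fixed_basis {m : ℕ} (y : Fin m → L) (hli : LinearIndependent K y)
    (hy : ∀ (g : G) j, g • y j ∈ Submodule.span K (Set.range y)) :
    ∃ t : Fin m → L, (∀ (g : G) i, g • t i = t i) ∧ LinearIndependent K t ∧
      Submodule.span K (Set.range t) = Submodule.span K (Set.range y) := by
  classical
  set Y := Submodule.span K (Set.range y) with hY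
  set e := FixedPoints.toAlgAutMulEquiv G K with he
  let ρ : (K ≃ₐ[FixedPoints.subfield G K] K) → Y → Y := fun σ v =>
    ⟨(e.symm σ) • (v : L), smul_mem_span hc y hy _ _ v.2⟩
  have hρ : IsSemilinAction ρ := by
    refine ⟨?_, ?_, ?_, ?_⟩
    · intro σ v w
      apply Subtype.ext
      show (e.symm σ) • ((v + w : Y) : L) = (e.symm σ) • (v : L) + (e.symm σ) • (w : L)
      rw [Submodule.coe_add, smul_add]
    · intro σ x v
      apply Subtype.ext
      show (e.symm σ) • ((x • v : Y) : L) = σ x • ((e.symm σ) • (v : L))
      rw [Submodule.coe_smul, smul_smul_compat hc, toAlgAutMulEquiv_symm_smul]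
    · intro v
      apply Subtype.ext
      show (e.symm 1) • (v : L) = v
      rw [map_one, one_smul]
    · intro σ τ v
      apply Subtype.ext
      show (e.symm (σ * τ)) • (v : L) = (e.symm σ) • ((e.symm τ) • (v : L))
      rw [map_mul, mul_smul]
  have hspan := hρ.span_fixed
  obtain ⟨b, hbsub, hbspan, hbli⟩ :=
    exists_linearIndependent K {v : Y | ∀ σ, ρ σ v = v}
  rw [hspan] at hbspan
  -- the basis
  have hfd : Module.Finite K Y := by
    rw [hY]
    exact FiniteDimensional.span_of_finite K (Set.finite_range y)
  have hrankY : Module.finrank K Y = m := by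
    rw [hY, finrank_span_eq_card hli, Fintype.card_fin]
  let B : Module.Basis b K Y := Module.Basis.mk hbli (by
    rw [Subtype.range_coe_subtype, Set.ofPred_mem_eq, hbspan])
  haveI : Fintype b := FiniteDimensional.fintypeBasisIndex B
  have hcard : Fintype.card b = m := by
    rw [← Module.finrank_eq_card_basis B, hrankY]
  let ε : Fin m ≃ b := (Fintype.equivFinOfCardEq hcard).symm
  refine ⟨fun i => ((ε i : Y) : L), ?_, ?_, ?_⟩
  · intro g i
    have h1 := hbsub (ε i).2 (e g)
    have h2 := congrArg Subtype.val h1
    have h3 : (e.symm (e g)) • (((ε i : b) : Y) : L) = (((ε i : b) : Y) : L) := h2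
    rwa [MulEquiv.symm_apply_apply] at h3
  · have h1 : LinearIndependent K (fun i : Fin m => ((ε i : b) : Y)) :=
      hbli.comp ε ε.injective
    exact h1.map' Y.subtype (Submodule.ker_subtype Y)
  · apply le_antisymm
    · rw [Submodule.span_le]
      rintro _ ⟨i, rfl⟩
      exact ((ε i : b) : Y).2
    · intro v hv
      have h1 : (⟨v, hv⟩ : Y) ∈ Submodule.span K b := by
        rw [hbspan]
        trivial
      have h2 : Submodule.map Y.subtype (Submodule.span K b)
          ≤ Submodule.span K (Set.range fun i : Fin m => (((ε i : b) : Y) : L)) := by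
        rw [Submodule.map_span, Submodule.span_le]
        rintro _ ⟨w, hw, rfl⟩
        refine Submodule.subset_span ⟨ε.symm ⟨w, hw⟩, ?_⟩
        simp
      exact h2 ⟨⟨v, hv⟩, h1, rfl⟩

end Groth.Agent.Lib.Helper6.NoName
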