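import Groth.Agent.Lib.Helper6.NoName.FldTools

set_option linter.unusedSectionVars false
set_option linter.unusedVariables false
set_option linter.unusedSimpArgs false
set_option autoImplicit false
set_option linter.style.haveILetI false
set_option maxHeartbeats 400000

/-!
# The diagonal action on `k(V ⊕ W)` of a group acting linearly on `k(V)` and `k(W)`
-/

namespace Groth.Agent.Lib.Helper6.NoName

open InvFld

universe u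

variable {k : Type u} [Field k] {σ₁ σ₂ : Type} [Fintype σ₁] [Fintype σ₂]

/-- the span of the variables -/
noncomputable abbrev varSpan (σ : Type) : Submodule k (Fld σ k) :=
  Submodule.span k (Set.range fun i : σ => (InvFld.X i : Fld σ k))

variable (k σ₁ σ₂) in
/-- `k(V) → k(V ⊕ W)` -/
noncomputable def inc1 : Fld σ₁ k →ₐ[k] Fld (σ₁ ⊕ σ₂) k :=
  fldLift (fun i : σ₁ => (InvFld.X (Sum.inl i) : Fld (σ₁ ⊕ σ₂) k))
    ((algebraicIndependent_fldX (k := k) (σ₁ ⊕ σ₂)).comp Sum.inl Sum.inl_injective)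

variable (k σ₁ σ₂) in
/-- `k(W) → k(V ⊕ W)` -/
noncomputable def inc2 : Fld σ₂ k →ₐ[k] Fld (σ₁ ⊕ σ₂) k :=
  fldLift (fun i : σ₂ => (InvFld.X (Sum.inr i) : Fld (σ₁ ⊕ σ₂) k))
    ((algebraicIndependent_fldX (k := k) (σ₁ ⊕ σ₂)).comp Sum.inr Sum.inr_injective)

@[simp]
theorem inc1_X (i : σ₁) : inc1 k σ₁ σ₂ (InvFld.X i) = InvFld.X (Sum.inl i) := fldLift_X _ _ i

@[simp]
theorem inc2_X (i : σ₂) : inc2 k σ₁ σ₂ (InvFld.X i) = InvFld.X (Sum.inr i) := fldLift_X _ _ i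

/-- a linear automorphism whose inverse is linear preserves the span of the variables -/
theorem span_image_eq {σ : Type} (α : Fld σ k ≃ₐ[k] Fld σ k)
    (h1 : ∀ i, α (InvFld.X i) ∈ varSpan (k := k) σ)
    (h2 : ∀ i, α.symm (InvFld.X i) ∈ varSpan (k := k) σ) :
    Submodule.span k (Set.range fun i : σ => α (InvFld.X i)) = varSpan (k := k) σ := by
  apply le_antisymm
  · rw [Submodule.span_le]
    rintro _ ⟨i, rfl⟩
    exact h1 i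
  · rw [Submodule.span_le]
    rintro _ ⟨i, rfl⟩
    have h3 := Submodule.apply_mem_span_image_of_mem_span α.toLinearMap (h2 i)
    have h4 : α.toLinearMap (α.symm (InvFld.X i)) = InvFld.X i := α.apply_symm_apply _
    rw [h4, ← Set.range_comp] at h3
    exact h3

/-- the image under an injection of the span of a family -/
theorem span_range_map {A B : Type*} [Field A] [Field B] [Algebra k A] [Algebra k B]
    (f : A →ₐ[k] B) {ι : Type*} (v w : ι → A)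
    (h : Submodule.span k (Set.range v) = Submodule.span k (Set.range w)) :
    Submodule.span k (Set.range fun i => f (v i)) = Submodule.span k (Set.range fun i => f (w i)) := by
  have e1 : ∀ u : ι → A, Submodule.span k (Set.range fun i => f (u i))
      = (Submodule.span k (Set.range u)).map f.toLinearMap := by
    intro u
    rw [Submodule.map_span, ← Set.range_comp]
    rfl
  rw [e1, e1, h]

variable {Γ : Type*} [Group Γ]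
  (ρ₁ : Γ →* (Fld σ₁ k ≃ₐ[k] Fld σ₁ k)) (ρ₂ : Γ →* (Fld σ₂ k ≃ₐ[k] Fld σ₂ k))
  (h₁ : ∀ g i, ρ₁ g (InvFld.X i) ∈ varSpan (k := k) σ₁)
  (h₂ : ∀ g i, ρ₂ g (InvFld.X i) ∈ varSpan (k := k) σ₂)

/-- the images of the variables under the diagonal action -/
noncomputable def zfam (g : Γ) : σ₁ ⊕ σ₂ → Fld (σ₁ ⊕ σ₂) k :=
  Sum.elim (fun i => inc1 k σ₁ σ₂ (ρ₁ g (InvFld.X i))) (fun j => inc2 k σ₁ σ₂ (ρ₂ g (InvFld.X j)))

theorem symm_mem (ρ : Γ →* (Fld σ₁ k ≃ₐ[k] Fld σ₁ k))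
    (h : ∀ g i, ρ g (InvFld.X i) ∈ varSpan (k := k) σ₁) (g : Γ) (i : σ₁) :
    (ρ g).symm (InvFld.X i) ∈ varSpan (k := k) σ₁ := by
  have : (ρ g).symm = ρ g⁻¹ := by
    rw [map_inv]
    rfl
  rw [this]
  exact h g⁻¹ i

include h₁ h₂ in
theorem span_zfam (g : Γ) :
    Submodule.span k (Set.range (zfam ρ₁ ρ₂ g))
      = Submodule.span k (Set.range fun s : σ₁ ⊕ σ₂ => (InvFld.X s : Fld (σ₁ ⊕ σ₂) k)) := by
  have e0 : (fun s : σ₁ ⊕ σ₂ => (InvFld.X s : Fld (σ₁ ⊕ σ₂) k))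
      = Sum.elim (fun i => inc1 k σ₁ σ₂ (InvFld.X i)) (fun j => inc2 k σ₁ σ₂ (InvFld.X j)) := by
    funext s
    rcases s with i | j <;> simp
  rw [e0]
  unfold zfam
  rw [Set.Sum.elim_range, Set.Sum.elim_range, Submodule.span_union, Submodule.span_union]
  congr 1
  · apply span_range_map
    exact span_image_eq (ρ₁ g) (h₁ g) (symm_mem ρ₁ h₁ g)
  · apply span_range_map
    exact span_image_eq (ρ₂ g) (h₂ g) (symm_mem (σ₁ := σ₂) ρ₂ h₂ g)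

include h₁ h₂ in
theorem algebraicIndependent_zfam (g : Γ) : AlgebraicIndependent k (zfam ρ₁ ρ₂ g) :=
  algebraicIndependent_of_span_eq' _ _ (algebraicIndependent_fldX (k := k) (σ₁ ⊕ σ₂))
    (span_zfam ρ₁ ρ₂ h₁ h₂ g)

/-- the diagonal endomorphism -/
noncomputable def diag0 (g : Γ) : Fld (σ₁ ⊕ σ₂) k →ₐ[k] Fld (σ₁ ⊕ σ₂) k :=
  fldLift (zfam ρ₁ ρ₂ g) (algebraicIndependent_zfam ρ₁ ρ₂ h₁ h₂ g)

theorem diag0_inl (g : Γ) (i : σ₁) :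
    diag0 ρ₁ ρ₂ h₁ h₂ g (InvFld.X (Sum.inl i)) = inc1 k σ₁ σ₂ (ρ₁ g (InvFld.X i)) :=
  fldLift_X _ _ _

theorem diag0_inr (g : Γ) (j : σ₂) :
    diag0 ρ₁ ρ₂ h₁ h₂ g (InvFld.X (Sum.inr j)) = inc2 k σ₁ σ₂ (ρ₂ g (InvFld.X j)) :=
  fldLift_X _ _ _

theorem diag0_inc1 (g : Γ) (a : Fld σ₁ k) :
    diag0 ρ₁ ρ₂ h₁ h₂ g (inc1 k σ₁ σ₂ a) = inc1 k σ₁ σ₂ (ρ₁ g a) := by
  have : (diag0 ρ₁ ρ₂ h₁ h₂ g).comp (inc1 k σ₁ σ₂)
      = (inc1 k σ₁ σ₂).comp ((ρ₁ g : Fld σ₁ k ≃ₐ[k] Fld σ₁ k) : Fld σ₁ k →ₐ[k] Fld σ₁ k) := by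
    apply fld_algHom_ext
    intro i
    show diag0 ρ₁ ρ₂ h₁ h₂ g (inc1 k σ₁ σ₂ (InvFld.X i)) = inc1 k σ₁ σ₂ (ρ₁ g (InvFld.X i))
    rw [inc1_X, diag0_inl]
  exact AlgHom.congr_fun this a

theorem diag0_inc2 (g : Γ) (a : Fld σ₂ k) :
    diag0 ρ₁ ρ₂ h₁ h₂ g (inc2 k σ₁ σ₂ a) = inc2 k σ₁ σ₂ (ρ₂ g a) := by
  have : (diag0 ρ₁ ρ₂ h₁ h₂ g).comp (inc2 k σ₁ σ₂)
      = (inc2 k σ₁ σ₂).comp ((ρ₂ g : Fld σ₂ k ≃ₐ[k] Fld σ₂ k) : Fld σ₂ k →ₐ[k] Fld σ₂ k) := by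
    apply fld_algHom_ext
    intro i
    show diag0 ρ₁ ρ₂ h₁ h₂ g (inc2 k σ₁ σ₂ (InvFld.X i)) = inc2 k σ₁ σ₂ (ρ₂ g (InvFld.X i))
    rw [inc2_X, diag0_inr]
  exact AlgHom.congr_fun this a

theorem diag0_mul (g g' : Γ) :
    diag0 ρ₁ ρ₂ h₁ h₂ (g * g') = (diag0 ρ₁ ρ₂ h₁ h₂ g).comp (diag0 ρ₁ ρ₂ h₁ h₂ g') := by
  apply fld_algHom_ext
  intro s
  rcases s with i | j
  · show _ = diag0 ρ₁ ρ₂ h₁ h₂ g (diag0 ρ₁ ρ₂ h₁ h₂ g' (InvFld.X (Sum.inl i)))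
    rw [diag0_inl, diag0_inl, diag0_inc1, map_mul]
    rfl
  · show _ = diag0 ρ₁ ρ₂ h₁ h₂ g (diag0 ρ₁ ρ₂ h₁ h₂ g' (InvFld.X (Sum.inr j)))
    rw [diag0_inr, diag0_inr, diag0_inc2, map_mul]
    rfl

theorem diag0_one : diag0 ρ₁ ρ₂ h₁ h₂ (1 : Γ) = AlgHom.id k _ := by
  apply fld_algHom_ext
  intro s
  rcases s with i | j
  · rw [diag0_inl, map_one]
    simp
  · rw [diag0_inr, map_one]
    simp

/-- the diagonal action as a group hom -/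
noncomputable def diag : Γ →* (Fld (σ₁ ⊕ σ₂) k ≃ₐ[k] Fld (σ₁ ⊕ σ₂) k) where
  toFun g := AlgEquiv.ofAlgHom (diag0 ρ₁ ρ₂ h₁ h₂ g) (diag0 ρ₁ ρ₂ h₁ h₂ g⁻¹)
    (by rw [← diag0_mul, mul_inv_cancel, diag0_one])
    (by rw [← diag0_mul, inv_mul_cancel, diag0_one])
  map_one' := by
    apply AlgEquiv.ext
    intro a
    show diag0 ρ₁ ρ₂ h₁ h₂ 1 a = a
    rw [diag0_one]
    rfl
  map_mul' g g' := by
    apply AlgEquiv.ext
    intro a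
    show diag0 ρ₁ ρ₂ h₁ h₂ (g * g') a = diag0 ρ₁ ρ₂ h₁ h₂ g (diag0 ρ₁ ρ₂ h₁ h₂ g' a)
    rw [diag0_mul]
    rfl

theorem diag_apply (g : Γ) (a : Fld (σ₁ ⊕ σ₂) k) :
    diag ρ₁ ρ₂ h₁ h₂ g a = diag0 ρ₁ ρ₂ h₁ h₂ g a := rfl

theorem diag_inc1 (g : Γ) (a : Fld σ₁ k) :
    diag ρ₁ ρ₂ h₁ h₂ g (inc1 k σ₁ σ₂ a) = inc1 k σ₁ σ₂ (ρ₁ g a) := diag0_inc1 ρ₁ ρ₂ h₁ h₂ g a

theorem diag_inc2 (g : Γ) (a : Fld σ₂ k) :
    diag ρ₁ ρ₂ h₁ h₂ g (inc2 k σ₁ σ₂ a) = inc2 k σ₁ σ₂ (ρ₂ g a) := diag0_inc2 ρ₁ ρ₂ h₁ h₂ g a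

end Groth.Agent.Lib.Helper6.NoName
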