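import Groth.Agent.Lib.Helper6.NoName.Descent
import Mathlib.FieldTheory.IntermediateField.Adjoin.Basic
import Mathlib.FieldTheory.IntermediateField.Algebraic

set_option linter.unusedSectionVars false
set_option linter.unusedVariables false
set_option linter.unusedSimpArgs false
set_option autoImplicit false
set_option linter.style.haveILetI false
set_option maxHeartbeats 400000

/-!
# The fixed field of `L = K(t)` when `t` is fixed: `L^G = K^G(t)`
-/

namespace Groth.Agent.Lib.Helper6.NoName

open Module

variable {G : Type*} [Group G] [Finite G] {K L : Type*} [Field K] [Field L] [Algebra K L]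
  [MulSemiringAction G K] [MulSemiringAction G L] [FaithfulSMul G K]
  (hc : ∀ (g : G) (a : K), algebraMap K L (g • a) = g • algebraMap K L a)

include hc in
theorem fixed_mem_closure {m : ℕ} (y t : Fin m → L)
    (ht : ∀ (g : G) i, g • t i = t i)
    (hspan : ∀ j, y j ∈ Submodule.span K (Set.range t))
    (hgen : ∀ S : Subfield L, (∀ c : K, algebraMap K L c ∈ S) → (∀ j, y j ∈ S) → S = ⊤)
    (a : L) (ha : ∀ g : G, g • a = a) :
    a ∈ Subfield.closure (algebraMap K L '' {c | ∀ g : G, g • c = c} ∪ Set.range t) := by
  classical
  haveI := Fintype.ofFinite G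
  haveI : SMulCommClass G (FixedPoints.subfield G K) L := ⟨fun g c a => by
    show g • ((c : K) • a) = (c : K) • (g • a)
    rw [smul_smul_compat hc, c.2 g]⟩
  haveI : FaithfulSMul G L := ⟨fun {g₁ g₂} h => eq_of_smul_eq_smul (α := K) (fun c =>
    (algebraMap K L).injective (by rw [hc, hc, h]))⟩
  set M : IntermediateField (FixedPoints.subfield G K) L :=
    IntermediateField.adjoin (FixedPoints.subfield G K) (Set.range t) with hM
  set E : IntermediateField (FixedPoints.subfield G K) L :=
    FixedPoints.intermediateField G with hE
  have hle : M ≤ E := by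
    rw [hM, IntermediateField.adjoin_le_iff]
    rintro _ ⟨i, rfl⟩
    exact fun g => ht g i
  have hEr : finrank E L = Fintype.card G := FixedPoints.finrank_eq_card G L
  -- the image of `K`
  set KI : IntermediateField (FixedPoints.subfield G K) L :=
    (IsScalarTower.toAlgHom (FixedPoints.subfield G K) K L).fieldRange with hKI
  let eK : K ≃ₐ[FixedPoints.subfield G K] KI :=
    AlgEquiv.ofInjectiveField (IsScalarTower.toAlgHom (FixedPoints.subfield G K) K L)
  haveI : FiniteDimensional (FixedPoints.subfield G K) KI :=
    Module.Finite.equiv eK.toLinearEquiv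
  have hKIr : Module.rank (FixedPoints.subfield G K) KI = Fintype.card G := by
    rw [← finrank_eq_rank, ← eK.toLinearEquiv.finrank_eq, FixedPoints.finrank_eq_card G K]
  have h1 := IntermediateField.adjoin_rank_le_of_isAlgebraic_right (F := FixedPoints.subfield G K)
    (E := M) (K := L) KI
  rw [hKIr] at h1
  set T : IntermediateField M L := IntermediateField.adjoin M (KI : Set L) with hT
  have hTtop : T = ⊤ := by
    have h2 : T.toSubfield = ⊤ := by
      apply hgen
      · intro c
        exact IntermediateField.subset_adjoin _ _ ⟨c, rfl⟩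
      · intro j
        have h3 := hspan j
        obtain ⟨c, hc'⟩ := (Submodule.mem_span_range_iff_exists_fun K).1 h3
        rw [← hc']
        refine Subfield.sum_mem _ fun i _ => ?_
        rw [Algebra.smul_def]
        refine Subfield.mul_mem _ ?_ ?_
        · exact IntermediateField.subset_adjoin _ _ ⟨c i, rfl⟩
        · have : t i ∈ M := IntermediateField.subset_adjoin _ _ ⟨i, rfl⟩
          exact T.algebraMap_mem ⟨t i, this⟩
    apply IntermediateField.toSubfield_injective
    rw [h2]
    rfl
  have hMr : Module.rank M L ≤ Fintype.card G := by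
    rw [hTtop] at h1
    rwa [← (IntermediateField.topEquiv (F := M) (E := L)).toLinearEquiv.rank_eq]
  haveI : FiniteDimensional M L := by
    rw [FiniteDimensional, ← Module.rank_lt_aleph0_iff]
    exact lt_of_le_of_lt hMr (Cardinal.natCast_lt_aleph0)
  have hMr' : finrank M L ≤ finrank E L := by
    rw [hEr]
    have : (finrank M L : Cardinal) ≤ Fintype.card G := by
      rw [finrank_eq_rank]
      exact hMr
    exact_mod_cast this
  have hME : M = E := IntermediateField.eq_of_le_of_finrank_le' hle hMr'
  have haE : a ∈ E := ha
  rw [← hME, hM] at haE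
  have h5 : a ∈ Subfield.closure (Set.range (algebraMap (FixedPoints.subfield G K) L)
      ∪ Set.range t) := haE
  refine Subfield.closure_mono ?_ h5
  apply Set.union_subset_union_left
  rintro _ ⟨c, rfl⟩
  exact ⟨(c : K), c.2, rfl⟩

end Groth.Agent.Lib.Helper6.NoName
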