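import Groth.Agent.Lib.Helper6.NoName.AlgIndep
import Groth.Prelude.Def_W4c2brnrinvarInvFld
import Mathlib.RingTheory.AlgebraicIndependent.Defs
import Mathlib.LinearAlgebra.Dimension.OrzechProperty
import Mathlib.FieldTheory.IntermediateField.Adjoin.Algebra

set_option linter.unusedSectionVars false
set_option linter.unusedVariables false
set_option linter.unusedSimpArgs false
set_option autoImplicit false
set_option linter.style.haveILetI false
set_option maxHeartbeats 400000

/-!
# Tools for rational function fields `InvFld.Fld σ k`
-/

namespace Groth.Agent.Lib.Helper6.NoName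

open InvFld MvPolynomial

universe u v

variable {k : Type u} [Field k]

/-- algebra homs out of a rational function field are determined by the variables -/
theorem fld_algHom_ext {σ : Type*} {L : Type*} [Field L] [Algebra k L]
    (f f' : Fld σ k →ₐ[k] L) (h : ∀ i, f (InvFld.X i) = f' (InvFld.X i)) : f = f' := by
  have h1 : f.comp (IsScalarTower.toAlgHom k (MvPolynomial σ k) (Fld σ k))
      = f'.comp (IsScalarTower.toAlgHom k (MvPolynomial σ k) (Fld σ k)) := by
    apply MvPolynomial.algHom_ext
    intro i
    exact h i
  have h2 : (f : Fld σ k →+* L) = (f' : Fld σ k →+* L) := by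
    apply IsFractionRing.ringHom_ext (A := MvPolynomial σ k)
    intro p
    exact AlgHom.congr_fun h1 p
  apply AlgHom.ext
  intro a
  exact RingHom.congr_fun h2 a

/-- algebraic independence is preserved when the `K`-span is preserved (finite families) -/
theorem algebraicIndependent_of_span_eq' {K L : Type*} [Field K] [Field L] [Algebra K L]
    {ι : Type*} [Fintype ι] (y t : ι → L)
    (hy : AlgebraicIndependent K y)
    (hspan : Submodule.span K (Set.range t) = Submodule.span K (Set.range y)) :
    AlgebraicIndependent K t := by
  classical
  have hli : LinearIndependent K t := by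
    rw [linearIndependent_iff_card_eq_finrank_span]
    show _ = Module.finrank K (Submodule.span K (Set.range t))
    rw [hspan, finrank_span_eq_card hy.linearIndependent]
  have h1 : ∀ i, ∃ c : ι → K, ∑ j, c j • y j = t i := by
    intro i
    have : t i ∈ Submodule.span K (Set.range y) := by
      rw [← hspan]
      exact Submodule.subset_span ⟨i, rfl⟩
    exact (Submodule.mem_span_range_iff_exists_fun K).1 this
  have h2 : ∀ j, ∃ c : ι → K, ∑ i, c i • t i = y j := by
    intro j
    have : y j ∈ Submodule.span K (Set.range t) := by
      rw [hspan]
      exact Submodule.subset_span ⟨j, rfl⟩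
    exact (Submodule.mem_span_range_iff_exists_fun K).1 this
  choose C hC using h1
  choose D hD using h2
  have hCD : ∀ i l, ∑ j, C i j * D j l = if i = l then 1 else 0 := by
    intro i
    have h3 : ∑ l, (∑ j, C i j * D j l) • t l = t i := by
      rw [← hC i]
      simp_rw [← hD, Finset.smul_sum, smul_smul, Finset.sum_smul]
      rw [Finset.sum_comm]
    have h4 : ∑ l, ((∑ j, C i j * D j l) - (if i = l then 1 else 0)) • t l = 0 := by
      simp_rw [sub_smul]
      rw [Finset.sum_sub_distrib, h3]
      simp
    intro l
    have := Fintype.linearIndependent_iff.1 hli _ h4 l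
    exact sub_eq_zero.1 this
  let f : MvPolynomial ι K →ₐ[K] MvPolynomial ι K :=
    aeval (fun i => ∑ j, C i j • (MvPolynomial.X j : MvPolynomial ι K))
  let g : MvPolynomial ι K →ₐ[K] MvPolynomial ι K :=
    aeval (fun j => ∑ l, D j l • (MvPolynomial.X l : MvPolynomial ι K))
  have hgf : g.comp f = AlgHom.id K _ := by
    apply MvPolynomial.algHom_ext
    intro i
    show g (f (MvPolynomial.X i)) = MvPolynomial.X i
    simp only [f, g, aeval_X, map_sum, map_smul, Finset.smul_sum, smul_smul]
    rw [Finset.sum_comm]
    simp_rw [← Finset.sum_smul, hCD]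
    simp
  have hfinj : Function.Injective f := by
    intro a b hab
    have := congrArg g hab
    have e1 : ∀ a, g (f a) = a := fun a => by
      have := AlgHom.congr_fun hgf a
      simpa using this
    rwa [e1, e1] at this
  have hcomp : (aeval t : MvPolynomial ι K →ₐ[K] L) = (aeval y).comp f := by
    apply MvPolynomial.algHom_ext
    intro i
    show aeval t (MvPolynomial.X i) = aeval y (f (MvPolynomial.X i))
    simp only [f, aeval_X, map_sum, map_smul]
    exact (hC i).symm
  show Function.Injective (aeval t : MvPolynomial ι K →ₐ[K] L)
  rw [hcomp, AlgHom.coe_comp]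
  exact Function.Injective.comp hy hfinj

/-- the algebra hom out of a rational function field attached to an algebraically independent
family -/
noncomputable def fldLift {σ : Type*} {L : Type*} [Field L] [Algebra k L] (z : σ → L)
    (hz : AlgebraicIndependent k z) : Fld σ k →ₐ[k] L :=
  IsFractionRing.liftAlgHom (K := Fld σ k) (g := (aeval z : MvPolynomial σ k →ₐ[k] L))
    (algebraicIndependent_iff_injective_aeval.1 hz)

theorem fldLift_X {σ : Type*} {L : Type*} [Field L] [Algebra k L] (z : σ → L)
    (hz : AlgebraicIndependent k z) (i : σ) : fldLift z hz (InvFld.X i) = z i := by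
  unfold fldLift
  rw [IsFractionRing.liftAlgHom_apply, IsFractionRing.lift_algebraMap]
  simp

theorem fldLift_algebraMap {σ : Type*} {L : Type*} [Field L] [Algebra k L] (z : σ → L)
    (hz : AlgebraicIndependent k z) (p : MvPolynomial σ k) :
    fldLift z hz (algebraMap (MvPolynomial σ k) (Fld σ k) p) = aeval z p := by
  unfold fldLift
  rw [IsFractionRing.liftAlgHom_apply, IsFractionRing.lift_algebraMap]
  rfl

/-- the variables of a rational function field are algebraically independent -/
theorem algebraicIndependent_fldX (σ : Type*) :
    AlgebraicIndependent k (fun i : σ => (InvFld.X i : Fld σ k)) := by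
  have h := (MvPolynomial.algebraicIndependent_X σ k).map'
    (f := IsScalarTower.toAlgHom k (MvPolynomial σ k) (Fld σ k))
    (IsFractionRing.injective _ _)
  exact h

/-- a subfield containing the constants and the variables is everything -/
theorem fld_subfield_eq_top {σ : Type*} (S : Subfield (Fld σ k))
    (h0 : ∀ c : k, algebraMap k (Fld σ k) c ∈ S) (h1 : ∀ i, (InvFld.X i : Fld σ k) ∈ S) :
    S = ⊤ := by
  rw [eq_top_iff]
  intro a _
  have hpoly : ∀ p : MvPolynomial σ k, algebraMap (MvPolynomial σ k) (Fld σ k) p ∈ S := by
    intro p
    induction p using MvPolynomial.induction_on with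
    | C c =>
      rw [← MvPolynomial.algebraMap_eq, ← IsScalarTower.algebraMap_apply]
      exact h0 c
    | add p q hp hq => rw [map_add]; exact S.add_mem hp hq
    | mul_X p i hp =>
      rw [map_mul]
      exact S.mul_mem hp (h1 i)
  obtain ⟨p, q, hq, rfl⟩ := IsFractionRing.div_surjective (A := MvPolynomial σ k) a
  exact S.div_mem (hpoly p) (hpoly q)

end Groth.Agent.Lib.Helper6.NoName
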