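import Groth.Agent.Lib.Helper6.NoName.FldTools
import Mathlib.RingTheory.AlgebraicIndependent.Adjoin
import Mathlib.FieldTheory.Galois.Basic

set_option linter.unusedSectionVars false
set_option linter.unusedVariables false
set_option linter.unusedSimpArgs false
set_option autoImplicit false
set_option linter.style.haveILetI false
set_option maxHeartbeats 400000

/-!
# A purely transcendental extension presented inside a bigger field
-/

namespace Groth.Agent.Lib.Helper6.NoName

open InvFld

theorem side_equiv {k K L : Type*} [Field k] [Field K] [Field L] [Algebra k K] [Algebra k L]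
    [Algebra K L] [IsScalarTower k K L]
    (F : IntermediateField k K) {m : ℕ} (t : Fin m → L) (hai : AlgebraicIndependent K t)
    (E : IntermediateField k L)
    (hE : E.toSubfield = Subfield.closure (algebraMap K L '' (F : Set K) ∪ Set.range t)) :
    Nonempty (Fld (Fin m) F ≃ₐ[k] E) := by
  have hai' : AlgebraicIndependent F t :=
    hai.restrictScalars (FaithfulSMul.algebraMap_injective F K)
  let E₁ := hai'.aevalEquivField
  let E₁k := E₁.restrictScalars k
  set M := IntermediateField.adjoin F (Set.range t) with hM
  have hME : ∀ a : L, a ∈ M ↔ a ∈ E := by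
    intro a
    have h1 : a ∈ M ↔ a ∈ Subfield.closure (Set.range (algebraMap F L) ∪ Set.range t) := Iff.rfl
    have h2 : a ∈ E ↔ a ∈ E.toSubfield := Iff.rfl
    rw [h1, h2, hE]
    have h3 : Set.range (algebraMap F L) = algebraMap K L '' (F : Set K) := by
      ext b
      constructor
      · rintro ⟨c, rfl⟩
        exact ⟨(c : K), c.2, rfl⟩
      · rintro ⟨c, hc, rfl⟩
        exact ⟨⟨c, hc⟩, rfl⟩
    rw [h3]
  let φ : M ≃ₐ[k] E :=
    { toFun := fun a => ⟨a.1, (hME a.1).1 a.2⟩
      invFun := fun a => ⟨a.1, (hME a.1).2 a.2⟩
      left_inv := fun _ => rfl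
      right_inv := fun _ => rfl
      map_mul' := fun _ _ => rfl
      map_add' := fun _ _ => rfl
      commutes' := fun c => rfl }
  exact ⟨E₁k.trans φ⟩

end Groth.Agent.Lib.Helper6.NoName
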