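import Groth.Agent.Lib.Helper6.NoName.Diag
import Mathlib.RingTheory.AlgebraicIndependent.AlgebraicClosure
import Mathlib.RingTheory.AlgebraicIndependent.Transcendental
import Mathlib.FieldTheory.IntermediateField.Adjoin.Algebra

set_option linter.unusedSectionVars false
set_option linter.unusedVariables false
set_option linter.unusedSimpArgs false
set_option autoImplicit false
set_option linter.style.haveILetI false
set_option maxHeartbeats 400000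

/-!
# `k(V ⊕ W)` over `k(V)` and over `k(W)`
-/

namespace Groth.Agent.Lib.Helper6.NoName

open InvFld

universe u

variable (k : Type u) [Field k] (σ₁ σ₂ : Type) [Fintype σ₁] [Fintype σ₂]

/-- `k(V ⊕ W)` as an algebra over `k(V)` -/
@[reducible] noncomputable def alg1 : Algebra (Fld σ₁ k) (Fld (σ₁ ⊕ σ₂) k) :=
  (inc1 k σ₁ σ₂).toRingHom.toAlgebra

/-- `k(V ⊕ W)` as an algebra over `k(W)` -/
@[reducible] noncomputable def alg2 : Algebra (Fld σ₂ k) (Fld (σ₁ ⊕ σ₂) k) :=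
  (inc2 k σ₁ σ₂).toRingHom.toAlgebra

theorem tower1 : @IsScalarTower k (Fld σ₁ k) (Fld (σ₁ ⊕ σ₂) k) _ (alg1 k σ₁ σ₂).toSMul _ := by
  letI := alg1 k σ₁ σ₂
  exact IsScalarTower.of_algebraMap_eq (fun c => ((inc1 k σ₁ σ₂).commutes c).symm)

theorem tower2 : @IsScalarTower k (Fld σ₂ k) (Fld (σ₁ ⊕ σ₂) k) _ (alg2 k σ₁ σ₂).toSMul _ := by
  letI := alg2 k σ₁ σ₂
  exact IsScalarTower.of_algebraMap_eq (fun c => ((inc2 k σ₁ σ₂).commutes c).symm)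

/-- `k(x) ⊆ k(x, y)` as an intermediate field -/
noncomputable abbrev sub1 : IntermediateField k (Fld (σ₁ ⊕ σ₂) k) :=
  IntermediateField.adjoin k (Set.range fun i : σ₁ => (InvFld.X (Sum.inl i) : Fld (σ₁ ⊕ σ₂) k))

/-- `k(y) ⊆ k(x, y)` as an intermediate field -/
noncomputable abbrev sub2 : IntermediateField k (Fld (σ₁ ⊕ σ₂) k) :=
  IntermediateField.adjoin k (Set.range fun i : σ₂ => (InvFld.X (Sum.inr i) : Fld (σ₁ ⊕ σ₂) k))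

theorem inc1_mem (a : Fld σ₁ k) : inc1 k σ₁ σ₂ a ∈ sub1 k σ₁ σ₂ := by
  have h : ((sub1 k σ₁ σ₂).comap (inc1 k σ₁ σ₂)).toSubfield = ⊤ := by
    apply fld_subfield_eq_top
    · intro c
      exact IntermediateField.algebraMap_mem _ c
    · intro i
      show inc1 k σ₁ σ₂ (InvFld.X i) ∈ sub1 k σ₁ σ₂
      rw [inc1_X]
      exact IntermediateField.subset_adjoin _ _ ⟨i, rfl⟩
  have h2 : a ∈ ((sub1 k σ₁ σ₂).comap (inc1 k σ₁ σ₂)).toSubfield := by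
    rw [h]
    trivial
  exact h2

theorem inc2_mem (a : Fld σ₂ k) : inc2 k σ₁ σ₂ a ∈ sub2 k σ₁ σ₂ := by
  have h : ((sub2 k σ₁ σ₂).comap (inc2 k σ₁ σ₂)).toSubfield = ⊤ := by
    apply fld_subfield_eq_top
    · intro c
      exact IntermediateField.algebraMap_mem _ c
    · intro i
      show inc2 k σ₁ σ₂ (InvFld.X i) ∈ sub2 k σ₁ σ₂
      rw [inc2_X]
      exact IntermediateField.subset_adjoin _ _ ⟨i, rfl⟩
  have h2 : a ∈ ((sub2 k σ₁ σ₂).comap (inc2 k σ₁ σ₂)).toSubfield := by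
    rw [h]
    trivial
  exact h2

open IntermediateField.algebraAdjoinAdjoin in
theorem algInd_sub1 : AlgebraicIndependent (sub1 k σ₁ σ₂)
    (fun j : σ₂ => (InvFld.X (Sum.inr j) : Fld (σ₁ ⊕ σ₂) k)) := by
  have h1 := algebraicIndependent_fldX (k := k) (σ₁ ⊕ σ₂)
  have h2 : AlgebraicIndependent k (Sum.elim
      (fun j : σ₂ => (InvFld.X (Sum.inr j) : Fld (σ₁ ⊕ σ₂) k))
      (fun i : σ₁ => (InvFld.X (Sum.inl i) : Fld (σ₁ ⊕ σ₂) k))) := by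
    have := h1.comp (Equiv.sumComm σ₂ σ₁) (Equiv.injective _)
    convert this using 1
    funext i
    rcases i with i | i <;> rfl
  have h3 := (AlgebraicIndependent.sumElim_iff.1 h2).2
  exact h3.extendScalars (sub1 k σ₁ σ₂)

open IntermediateField.algebraAdjoinAdjoin in
theorem algInd_sub2 : AlgebraicIndependent (sub2 k σ₁ σ₂)
    (fun j : σ₁ => (InvFld.X (Sum.inl j) : Fld (σ₁ ⊕ σ₂) k)) := by
  have h1 := algebraicIndependent_fldX (k := k) (σ₁ ⊕ σ₂)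
  have h2 : AlgebraicIndependent k (Sum.elim
      (fun i : σ₁ => (InvFld.X (Sum.inl i) : Fld (σ₁ ⊕ σ₂) k))
      (fun j : σ₂ => (InvFld.X (Sum.inr j) : Fld (σ₁ ⊕ σ₂) k))) := by
    convert h1 using 1
    funext i
    rcases i with i | i <;> rfl
  have h3 := (AlgebraicIndependent.sumElim_iff.1 h2).2
  exact h3.extendScalars (sub2 k σ₁ σ₂)

theorem algInd1 : @AlgebraicIndependent σ₂ (Fld σ₁ k) (Fld (σ₁ ⊕ σ₂) k)
    (fun j : σ₂ => (InvFld.X (Sum.inr j) : Fld (σ₁ ⊕ σ₂) k)) _ _ (alg1 k σ₁ σ₂) := by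
  letI := alg1 k σ₁ σ₂
  let f : Fld σ₁ k →+* sub1 k σ₁ σ₂ :=
    (inc1 k σ₁ σ₂).toRingHom.codRestrict (sub1 k σ₁ σ₂).toSubfield.toSubring (inc1_mem k σ₁ σ₂)
  refine AlgebraicIndependent.of_ringHom_of_comp_eq (S := sub1 k σ₁ σ₂)
    (B := Fld (σ₁ ⊕ σ₂) k) f (RingHom.id (Fld (σ₁ ⊕ σ₂) k)) ?_ (RingHom.injective f) ?_
  · exact algInd_sub1 k σ₁ σ₂
  · ext a
    rfl

theorem algInd2 : @AlgebraicIndependent σ₁ (Fld σ₂ k) (Fld (σ₁ ⊕ σ₂) k)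
    (fun j : σ₁ => (InvFld.X (Sum.inl j) : Fld (σ₁ ⊕ σ₂) k)) _ _ (alg2 k σ₁ σ₂) := by
  letI := alg2 k σ₁ σ₂
  let f : Fld σ₂ k →+* sub2 k σ₁ σ₂ :=
    (inc2 k σ₁ σ₂).toRingHom.codRestrict (sub2 k σ₁ σ₂).toSubfield.toSubring (inc2_mem k σ₁ σ₂)
  refine AlgebraicIndependent.of_ringHom_of_comp_eq (S := sub2 k σ₁ σ₂)
    (B := Fld (σ₁ ⊕ σ₂) k) f (RingHom.id (Fld (σ₁ ⊕ σ₂) k)) ?_ (RingHom.injective f) ?_
  · exact algInd_sub2 k σ₁ σ₂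
  · ext a
    rfl

theorem gen1 (S : Subfield (Fld (σ₁ ⊕ σ₂) k))
    (h1 : ∀ c : Fld σ₁ k, inc1 k σ₁ σ₂ c ∈ S)
    (h2 : ∀ j : σ₂, (InvFld.X (Sum.inr j) : Fld (σ₁ ⊕ σ₂) k) ∈ S) : S = ⊤ := by
  apply fld_subfield_eq_top
  · intro c
    rw [← (inc1 k σ₁ σ₂).commutes c]
    exact h1 _
  · rintro (i | j)
    · rw [← inc1_X]
      exact h1 _
    · exact h2 j

theorem gen2 (S : Subfield (Fld (σ₁ ⊕ σ₂) k))
    (h1 : ∀ c : Fld σ₂ k, inc2 k σ₁ σ₂ c ∈ S)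
    (h2 : ∀ j : σ₁, (InvFld.X (Sum.inl j) : Fld (σ₁ ⊕ σ₂) k) ∈ S) : S = ⊤ := by
  apply fld_subfield_eq_top
  · intro c
    rw [← (inc2 k σ₁ σ₂).commutes c]
    exact h1 _
  · rintro (i | j)
    · exact h2 i
    · rw [← inc2_X]
      exact h1 _

variable {k σ₁ σ₂}
variable {Γ : Type*} [Group Γ]
  (ρ₁ : Γ →* (Fld σ₁ k ≃ₐ[k] Fld σ₁ k)) (ρ₂ : Γ →* (Fld σ₂ k ≃ₐ[k] Fld σ₂ k))
  (h₁ : ∀ g i, ρ₁ g (InvFld.X i) ∈ varSpan (k := k) σ₁)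
  (h₂ : ∀ g i, ρ₂ g (InvFld.X i) ∈ varSpan (k := k) σ₂)

theorem diag_inr_mem (g : Γ) (j : σ₂) :
    diag ρ₁ ρ₂ h₁ h₂ g (InvFld.X (Sum.inr j)) ∈ Submodule.span k
      (Set.range fun j : σ₂ => (InvFld.X (Sum.inr j) : Fld (σ₁ ⊕ σ₂) k)) := by
  rw [diag_apply, diag0_inr]
  have h3 := Submodule.apply_mem_span_image_of_mem_span (inc2 k σ₁ σ₂).toLinearMap (h₂ g j)
  rw [← Set.range_comp] at h3
  have e : (⇑(inc2 k σ₁ σ₂).toLinearMap ∘ fun i : σ₂ => (InvFld.X i : Fld σ₂ k))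
      = fun j : σ₂ => (InvFld.X (Sum.inr j) : Fld (σ₁ ⊕ σ₂) k) := by
    funext j
    exact inc2_X j
  rw [e] at h3
  exact h3

theorem diag_inl_mem (g : Γ) (i : σ₁) :
    diag ρ₁ ρ₂ h₁ h₂ g (InvFld.X (Sum.inl i)) ∈ Submodule.span k
      (Set.range fun j : σ₁ => (InvFld.X (Sum.inl j) : Fld (σ₁ ⊕ σ₂) k)) := by
  rw [diag_apply, diag0_inl]
  have h3 := Submodule.apply_mem_span_image_of_mem_span (inc1 k σ₁ σ₂).toLinearMap (h₁ g i)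
  rw [← Set.range_comp] at h3
  have e : (⇑(inc1 k σ₁ σ₂).toLinearMap ∘ fun i : σ₁ => (InvFld.X i : Fld σ₁ k))
      = fun j : σ₁ => (InvFld.X (Sum.inl j) : Fld (σ₁ ⊕ σ₂) k) := by
    funext j
    exact inc1_X j
  rw [e] at h3
  exact h3

end Groth.Agent.Lib.Helper6.NoName
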