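import Groth.Agent.Lib.Helper6.NoName.App
import Groth.Agent.Lib.Helper6.NoName.Sides
import Groth.Agent.Lib.Helper6.NoName.SideEquiv

set_option linter.unusedSectionVars false
set_option linter.unusedVariables false
set_option linter.unusedSimpArgs false
set_option autoImplicit false
set_option linter.style.haveILetI false
set_option maxHeartbeats 400000

/-!
# Stable equivalence of the invariant fields of two faithful linear representations
-/

namespace Groth.Agent.Lib.Helper6.NoName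

open InvFld

universe u

/-- the fixed field of a group acting through a hom -/
def fixIF {k L : Type*} [Field k] [Field L] [Algebra k L] {Γ : Type*} [Group Γ]
    (γ : Γ →* (L ≃ₐ[k] L)) : IntermediateField k L where
  carrier := {a | ∀ g, γ g a = a}
  mul_mem' ha hb g := by rw [map_mul, ha g, hb g]
  one_mem' g := map_one _
  add_mem' ha hb g := by rw [map_add, ha g, hb g]
  zero_mem' g := map_zero _
  algebraMap_mem' c g := (γ g).commutes c
  inv_mem' a ha g := by rw [map_inv₀, ha g]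

theorem mem_fixIF {k L : Type*} [Field k] [Field L] [Algebra k L] {Γ : Type*} [Group Γ]
    (γ : Γ →* (L ≃ₐ[k] L)) (a : L) : a ∈ fixIF γ ↔ ∀ g, γ g a = a := Iff.rfl

/-- one side of the no-name lemma, as an isomorphism -/
theorem side_iso {k K L : Type*} [Field k] [Field K] [Field L] [Algebra k K] [Algebra k L]
    [Algebra K L] [IsScalarTower k K L] {Γ : Type*} [Group Γ] [Finite Γ]
    (ρ : Γ →* (K ≃ₐ[k] K)) (hρ : Function.Injective ρ) (γ : Γ →* (L ≃ₐ[k] L))
    (heq : ∀ g a, γ g (algebraMap K L a) = algebraMap K L (ρ g a))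
    {m : ℕ} (ys : Fin m → L) (hai : AlgebraicIndependent K ys)
    (hys : ∀ g j, γ g (ys j) ∈ Submodule.span k (Set.range ys))
    (hgen : ∀ S : Subfield L, (∀ c : K, algebraMap K L c ∈ S) → (∀ j, ys j ∈ S) → S = ⊤)
    (F : IntermediateField k K) (hF : ∀ c : K, c ∈ F ↔ ∀ g, ρ g c = c) :
    Nonempty (Fld (Fin m) F ≃ₐ[k] fixIF γ) := by
  obtain ⟨t, htfix, htai, hcl⟩ := noName_hom ρ hρ γ heq ys hai hys hgen
  refine side_equiv F t htai (fixIF γ) ?_
  apply le_antisymm
  · intro a ha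
    have h1 := hcl a ha
    refine Subfield.closure_mono ?_ h1
    apply Set.union_subset_union_left
    rintro _ ⟨c, hc, rfl⟩
    exact ⟨c, (hF c).2 hc, rfl⟩
  · rw [Subfield.closure_le]
    rintro _ (⟨c, hc, rfl⟩ | ⟨i, rfl⟩)
    · intro g
      rw [heq, (hF c).1 hc g]
    · exact fun g => htfix g i

variable (k : Type u) [Field k] (n m : ℕ)

theorem stable (G : Subgroup (Fld (Fin n) k ≃ₐ[k] Fld (Fin n) k)) [Finite G]
    (H : Subgroup (Fld (Fin m) k ≃ₐ[k] Fld (Fin m) k)) [Finite H] (e : G ≃* H)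
    (hG : ∀ σ ∈ G, ∀ i : Fin n, σ (InvFld.X i) ∈
      Submodule.span k (Set.range fun j : Fin n => (InvFld.X j : Fld (Fin n) k)))
    (hH : ∀ τ ∈ H, ∀ i : Fin m, τ (InvFld.X i) ∈
      Submodule.span k (Set.range fun j : Fin m => (InvFld.X j : Fld (Fin m) k))) :
    Nonempty (Fld (Fin m) (IntermediateField.fixedField G) ≃ₐ[k]
      Fld (Fin n) (IntermediateField.fixedField H)) := by
  classical
  let ρ₁ : G →* (Fld (Fin n) k ≃ₐ[k] Fld (Fin n) k) := G.subtype
  let ρ₂ : G →* (Fld (Fin m) k ≃ₐ[k] Fld (Fin m) k) := H.subtype.comp e.toMonoidHom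
  have h₁ : ∀ (g : G) i, ρ₁ g (InvFld.X i) ∈ varSpan (k := k) (Fin n) := fun g i => hG g.1 g.2 i
  have h₂ : ∀ (g : G) i, ρ₂ g (InvFld.X i) ∈ varSpan (k := k) (Fin m) :=
    fun g i => hH (e g).1 (e g).2 i
  have hρ₁ : Function.Injective ρ₁ := Subtype.val_injective
  have hρ₂ : Function.Injective ρ₂ := fun g g' h => e.injective (Subtype.val_injective h)
  set γ := diag ρ₁ ρ₂ h₁ h₂ with hγ
  -- side 1
  have s1 : Nonempty (Fld (Fin m) (IntermediateField.fixedField G) ≃ₐ[k] fixIF γ) := by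
    letI := alg1 k (Fin n) (Fin m)
    haveI := tower1 k (Fin n) (Fin m)
    refine side_iso ρ₁ hρ₁ γ (fun g a => diag_inc1 ρ₁ ρ₂ h₁ h₂ g a)
      (fun j : Fin m => (InvFld.X (Sum.inr j) : Fld (Fin n ⊕ Fin m) k))
      (algInd1 k (Fin n) (Fin m)) (fun g j => diag_inr_mem ρ₁ ρ₂ h₁ h₂ g j)
      (fun S hS1 hS2 => gen1 k (Fin n) (Fin m) S hS1 hS2) _ ?_
    intro c
    rw [IntermediateField.mem_fixedField_iff]
    constructor
    · intro h g
      exact h g.1 g.2
    · intro h f hf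
      exact h ⟨f, hf⟩
  have s2 : Nonempty (Fld (Fin n) (IntermediateField.fixedField H) ≃ₐ[k] fixIF γ) := by
    letI := alg2 k (Fin n) (Fin m)
    haveI := tower2 k (Fin n) (Fin m)
    refine side_iso ρ₂ hρ₂ γ (fun g a => diag_inc2 ρ₁ ρ₂ h₁ h₂ g a)
      (fun j : Fin n => (InvFld.X (Sum.inl j) : Fld (Fin n ⊕ Fin m) k))
      (algInd2 k (Fin n) (Fin m)) (fun g j => diag_inl_mem ρ₁ ρ₂ h₁ h₂ g j)
      (fun S hS1 hS2 => gen2 k (Fin n) (Fin m) S hS1 hS2) _ ?_
    intro c
    rw [IntermediateField.mem_fixedField_iff]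
    constructor
    · intro h g
      exact h (e g).1 (e g).2
    · intro h f hf
      have := h (e.symm ⟨f, hf⟩)
      have h2 : ρ₂ (e.symm ⟨f, hf⟩) = f := by
        show ((e (e.symm ⟨f, hf⟩) : H) : Fld (Fin m) k ≃ₐ[k] Fld (Fin m) k) = f
        rw [MulEquiv.apply_symm_apply]
      rwa [h2] at this
  obtain ⟨E1⟩ := s1
  obtain ⟨E2⟩ := s2
  exact ⟨E1.trans E2.symm⟩

end Groth.Agent.Lib.Helper6.NoName
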