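import Groth.Agent.Lib.Helper6.NoName.FldTools
import Mathlib.RingTheory.MvPolynomial.Symmetric.FundamentalTheorem
import Mathlib.FieldTheory.Galois.Basic
import Mathlib.RingTheory.AlgebraicIndependent.Transcendental

set_option linter.unusedSectionVars false
set_option linter.unusedVariables false
set_option linter.unusedSimpArgs false
set_option autoImplicit false
set_option linter.style.haveILetI false
set_option maxHeartbeats 400000

/-!
# The invariants of the symmetric group acting on `k(x₁, …, xₙ)` by permuting the variables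
-/

namespace Groth.Agent.Lib.Helper6.NoName

open InvFld MvPolynomial

universe u

variable (k : Type u) [Field k] (n : ℕ)

/-- permutation of the variables, as an endomorphism of the rational function field -/
noncomputable def permHom0 (τ : Equiv.Perm (Fin n)) : Fld (Fin n) k →ₐ[k] Fld (Fin n) k :=
  fldLift (fun i => (InvFld.X (τ i) : Fld (Fin n) k))
    ((algebraicIndependent_fldX (k := k) (Fin n)).comp τ τ.injective)

theorem permHom0_X (τ : Equiv.Perm (Fin n)) (i : Fin n) :
    permHom0 k n τ (InvFld.X i) = InvFld.X (τ i) := fldLift_X _ _ i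

theorem permHom0_mul (τ τ' : Equiv.Perm (Fin n)) :
    permHom0 k n (τ * τ') = (permHom0 k n τ).comp (permHom0 k n τ') := by
  apply fld_algHom_ext
  intro i
  show _ = permHom0 k n τ (permHom0 k n τ' (InvFld.X i))
  rw [permHom0_X, permHom0_X, permHom0_X]
  rfl

theorem permHom0_one : permHom0 k n 1 = AlgHom.id k _ := by
  apply fld_algHom_ext
  intro i
  rw [permHom0_X]
  rfl

/-- the permutation representation on the rational function field -/
noncomputable def permHom : Equiv.Perm (Fin n) →* (Fld (Fin n) k ≃ₐ[k] Fld (Fin n) k) where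
  toFun τ := AlgEquiv.ofAlgHom (permHom0 k n τ) (permHom0 k n τ⁻¹)
    (by rw [← permHom0_mul, mul_inv_cancel, permHom0_one])
    (by rw [← permHom0_mul, inv_mul_cancel, permHom0_one])
  map_one' := by
    apply AlgEquiv.ext
    intro a
    show permHom0 k n 1 a = a
    rw [permHom0_one]
    rfl
  map_mul' τ τ' := by
    apply AlgEquiv.ext
    intro a
    show permHom0 k n (τ * τ') a = permHom0 k n τ (permHom0 k n τ' a)
    rw [permHom0_mul]
    rfl

theorem permHom_X (τ : Equiv.Perm (Fin n)) (i : Fin n) :
    permHom k n τ (InvFld.X i) = InvFld.X (τ i) := permHom0_X k n τ i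

theorem permHom_injective : Function.Injective (permHom k n) := by
  intro τ τ' h
  ext i
  have h1 : permHom k n τ (InvFld.X i) = permHom k n τ' (InvFld.X i) := by rw [h]
  rw [permHom_X, permHom_X] at h1
  have := (algebraicIndependent_fldX (k := k) (Fin n)).injective h1
  rw [this]

theorem permHom_algebraMap (τ : Equiv.Perm (Fin n)) (p : MvPolynomial (Fin n) k) :
    permHom k n τ (algebraMap _ (Fld (Fin n) k) p) = algebraMap _ (Fld (Fin n) k) (rename τ p) := by
  induction p using MvPolynomial.induction_on with
  | C c =>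
    rw [rename_C, ← MvPolynomial.algebraMap_eq, ← IsScalarTower.algebraMap_apply]
    exact (permHom k n τ).commutes c
  | add p q hp hq => rw [map_add, map_add, hp, hq, map_add, map_add]
  | mul_X p i hp =>
    rw [map_mul, map_mul, hp, map_mul, map_mul, rename_X]
    congr 1
    exact permHom_X k n τ i

/-- an invariant rational function is a quotient of symmetric polynomials -/
theorem exists_symm_frac (a : Fld (Fin n) k) (ha : ∀ τ, permHom k n τ a = a) :
    ∃ P Q : MvPolynomial (Fin n) k, P.IsSymmetric ∧ Q.IsSymmetric ∧ Q ≠ 0 ∧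
      a = algebraMap _ (Fld (Fin n) k) P / algebraMap _ (Fld (Fin n) k) Q := by
  classical
  obtain ⟨p, q, hq, rfl⟩ := IsFractionRing.div_surjective (A := MvPolynomial (Fin n) k) a
  have hq0 : q ≠ 0 := nonZeroDivisors.ne_zero hq
  set Q : MvPolynomial (Fin n) k := ∏ τ : Equiv.Perm (Fin n), rename τ q with hQ
  set P : MvPolynomial (Fin n) k :=
    p * ∏ τ ∈ (Finset.univ.erase (1 : Equiv.Perm (Fin n))), rename τ q with hP
  have hQsymm : Q.IsSymmetric := by
    intro σ
    rw [hQ, map_prod]
    simp_rw [rename_rename]
    exact Fintype.prod_equiv (Equiv.mulLeft σ) _ _ (fun τ => rfl)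
  have hQ0 : Q ≠ 0 := by
    rw [hQ, Finset.prod_ne_zero_iff]
    intro τ _
    exact fun h => hq0 ((rename_injective _ τ.injective) (by rw [h, map_zero]))
  have hQq : Q = q * ∏ τ ∈ (Finset.univ.erase (1 : Equiv.Perm (Fin n))), rename τ q := by
    rw [hQ, ← Finset.mul_prod_erase Finset.univ _ (Finset.mem_univ (1 : Equiv.Perm (Fin n)))]
    congr 1
    show rename (1 : Equiv.Perm (Fin n)) q = q
    exact rename_id_apply q
  have hinj : Function.Injective (algebraMap (MvPolynomial (Fin n) k) (Fld (Fin n) k)) :=
    IsFractionRing.injective _ _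
  have hq0' : algebraMap _ (Fld (Fin n) k) q ≠ 0 := fun h => hq0 (hinj (by rw [h, map_zero]))
  have hQ0' : algebraMap _ (Fld (Fin n) k) Q ≠ 0 := fun h => hQ0 (hinj (by rw [h, map_zero]))
  have hPQ : algebraMap _ (Fld (Fin n) k) P
      = (algebraMap _ (Fld (Fin n) k) p / algebraMap _ (Fld (Fin n) k) q)
        * algebraMap _ (Fld (Fin n) k) Q := by
    rw [hP, hQq, map_mul, map_mul]
    field_simp
  have hPsymm : P.IsSymmetric := by
    intro σ
    apply hinj
    rw [← permHom_algebraMap, hPQ, map_mul, ha σ, permHom_algebraMap, hQsymm σ]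
  refine ⟨P, Q, hPsymm, hQsymm, hQ0, ?_⟩
  rw [hPQ]
  field_simp

/-- the image of the symmetric group -/
noncomputable abbrev permGroup : Subgroup (Fld (Fin n) k ≃ₐ[k] Fld (Fin n) k) :=
  (permHom k n).range

/-- the elementary symmetric functions as invariant rational functions -/
noncomputable def esymmFix (i : Fin n) : IntermediateField.fixedField (permGroup k n) :=
  ⟨algebraMap _ (Fld (Fin n) k) (esymm (Fin n) k (i + 1)), by
    rw [IntermediateField.mem_fixedField_iff]
    rintro _ ⟨τ, rfl⟩
    rw [permHom_algebraMap, esymm_isSymmetric (Fin n) k _ τ]⟩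

theorem algebraicIndependent_esymmFix : AlgebraicIndependent k (esymmFix k n) := by
  have h1 : AlgebraicIndependent k
      (fun i : Fin n => (⟨esymm (Fin n) k (i + 1), esymm_isSymmetric (Fin n) k _⟩ :
        symmetricSubalgebra (Fin n) k)) :=
    esymmAlgHom_fin_injective k (le_refl n)
  have h2 : AlgebraicIndependent k (fun i : Fin n => esymm (Fin n) k (i + 1)) :=
    h1.map' (f := (symmetricSubalgebra (Fin n) k).val) Subtype.val_injective
  have h3 : AlgebraicIndependent k
      (fun i : Fin n => algebraMap _ (Fld (Fin n) k) (esymm (Fin n) k (i + 1))) :=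
    h2.map' (f := IsScalarTower.toAlgHom k (MvPolynomial (Fin n) k) (Fld (Fin n) k))
      (IsFractionRing.injective _ _)
  exact AlgebraicIndependent.of_comp (IntermediateField.fixedField (permGroup k n)).val h3

theorem val_aeval_esymmFix (p' : MvPolynomial (Fin n) k) :
    ((aeval (esymmFix k n) p' : IntermediateField.fixedField (permGroup k n)) : Fld (Fin n) k)
      = algebraMap _ (Fld (Fin n) k) (aeval (fun i : Fin n => esymm (Fin n) k (i + 1)) p') := by
  have h1 := comp_aeval_apply (f := esymmFix k n)
    (IntermediateField.fixedField (permGroup k n)).val p'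
  have h2 := comp_aeval_apply (f := fun i : Fin n => esymm (Fin n) k (i + 1))
    (IsScalarTower.toAlgHom k (MvPolynomial (Fin n) k) (Fld (Fin n) k)) p'
  show (IntermediateField.fixedField (permGroup k n)).val (aeval (esymmFix k n) p') = _
  rw [h1]
  exact h2.symm

theorem mem_adjoin_esymmFix (c : IntermediateField.fixedField (permGroup k n)) :
    c ∈ IntermediateField.adjoin k (Set.range (esymmFix k n)) := by
  have hc : ∀ τ, permHom k n τ (c : Fld (Fin n) k) = c := by
    intro τ
    exact (IntermediateField.mem_fixedField_iff _ _).1 c.2 _ ⟨τ, rfl⟩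
  obtain ⟨P, Q, hP, hQ, hQ0, hcPQ⟩ := exists_symm_frac k n c hc
  obtain ⟨p', hp'⟩ := (esymmAlgHom_fin_bijective k n).2 ⟨P, hP⟩
  obtain ⟨q', hq'⟩ := (esymmAlgHom_fin_bijective k n).2 ⟨Q, hQ⟩
  have hp'' : aeval (fun i : Fin n => esymm (Fin n) k (i + 1)) p' = P := by
    rw [← esymmAlgHom_apply, hp']
  have hq'' : aeval (fun i : Fin n => esymm (Fin n) k (i + 1)) q' = Q := by
    rw [← esymmAlgHom_apply, hq']
  have hceq : c = aeval (esymmFix k n) p' / aeval (esymmFix k n) q' := by
    apply Subtype.ext
    show (c : Fld (Fin n) k) = ((aeval (esymmFix k n) p' :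
        IntermediateField.fixedField (permGroup k n)) : Fld (Fin n) k)
      / ((aeval (esymmFix k n) q' : IntermediateField.fixedField (permGroup k n)) : Fld (Fin n) k)
    rw [val_aeval_esymmFix, val_aeval_esymmFix, hp'', hq'']
    exact hcPQ
  rw [hceq]
  have hmem : ∀ r : MvPolynomial (Fin n) k, aeval (esymmFix k n) r
      ∈ IntermediateField.adjoin k (Set.range (esymmFix k n)) := by
    intro r
    have : aeval (esymmFix k n) r ∈ Algebra.adjoin k (Set.range (esymmFix k n)) := by
      rw [Algebra.adjoin_range_eq_range_aeval]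
      exact ⟨r, rfl⟩
    exact IntermediateField.algebra_adjoin_le_adjoin k _ this
  exact (IntermediateField.adjoin k (Set.range (esymmFix k n))).div_mem (hmem p') (hmem q')

end Groth.Agent.Lib.Helper6.NoName
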