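import Groth.Agent.Lib.Helper6.NoName.Stable
import Groth.Agent.Lib.Helper6.NoName.SymmInv

set_option linter.unusedSectionVars false
set_option linter.unusedVariables false
set_option linter.unusedSimpArgs false
set_option autoImplicit false
set_option linter.style.haveILetI false
set_option maxHeartbeats 400000

/-!
# Invariant fields of faithful linear representations of the symmetric group are stably pure
-/

namespace Groth.Agent.Lib.Helper6.NoName

open InvFld

universe u

variable (k : Type u) [Field k] (n m : ℕ)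

theorem symPure (G : Subgroup (Fld (Fin m) k ≃ₐ[k] Fld (Fin m) k)) [Finite G]
    (e : G ≃* Equiv.Perm (Fin n))
    (hG : ∀ σ ∈ G, ∀ i : Fin m, σ (InvFld.X i) ∈
      Submodule.span k (Set.range fun j : Fin m => (InvFld.X j : Fld (Fin m) k))) :
    ∃ (r N : ℕ) (t : Fin N → Fld (Fin r) (IntermediateField.fixedField G)),
      AlgebraicIndependent k t ∧ IntermediateField.adjoin k (Set.range t) = ⊤ := by
  classical
  set H := permGroup k n with hH
  let eH : Equiv.Perm (Fin n) ≃* H := MonoidHom.ofInjective (permHom_injective k n)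
  haveI : Finite H := Finite.of_equiv (Equiv.Perm (Fin n)) eH.toEquiv
  have hHlin : ∀ τ ∈ H, ∀ i : Fin n, τ (InvFld.X i) ∈
      Submodule.span k (Set.range fun j : Fin n => (InvFld.X j : Fld (Fin n) k)) := by
    rintro _ ⟨p, rfl⟩ i
    rw [permHom_X]
    exact Submodule.subset_span ⟨p i, rfl⟩
  obtain ⟨Φ⟩ := stable k m n G H (e.trans eH) hG hHlin
  set F := IntermediateField.fixedField H with hF
  let w : Fin m ⊕ Fin n → Fld (Fin m) F :=
    Sum.elim (fun j : Fin m => (InvFld.X j : Fld (Fin m) F))
      (algebraMap F (Fld (Fin m) F) ∘ esymmFix k n)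
  have hw_ai : AlgebraicIndependent k w :=
    (algebraicIndependent_esymmFix k n).sumElim_comp (algebraicIndependent_fldX (k := F) (Fin m))
  have hw_gen : IntermediateField.adjoin k (Set.range w) = ⊤ := by
    apply IntermediateField.toSubfield_injective
    show (IntermediateField.adjoin k (Set.range w)).toSubfield = ⊤
    apply fld_subfield_eq_top
    · intro c
      have h1 := mem_adjoin_esymmFix k n c
      have h2 : (IsScalarTower.toAlgHom k F (Fld (Fin m) F)) c
          ∈ (IntermediateField.adjoin k (Set.range (esymmFix k n))).map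
            (IsScalarTower.toAlgHom k F (Fld (Fin m) F)) := ⟨c, h1, rfl⟩
      rw [IntermediateField.adjoin_map] at h2
      refine IntermediateField.adjoin.mono k _ _ ?_ h2
      rintro _ ⟨_, ⟨i, rfl⟩, rfl⟩
      exact ⟨Sum.inr i, rfl⟩
    · intro j
      exact IntermediateField.subset_adjoin _ _ ⟨Sum.inl j, rfl⟩
  refine ⟨n, m + n, fun i => Φ.symm (w (finSumFinEquiv.symm i)), ?_, ?_⟩
  · have h1 := hw_ai.comp finSumFinEquiv.symm finSumFinEquiv.symm.injective
    exact h1.map' (f := (Φ.symm : Fld (Fin m) F →ₐ[k] Fld (Fin n) (IntermediateField.fixedField G)))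
      Φ.symm.injective
  · rw [eq_top_iff]
    intro b _
    have h1 : Φ b ∈ IntermediateField.adjoin k (Set.range w) := by
      rw [hw_gen]
      trivial
    have h2 : (Φ.symm : Fld (Fin m) F →ₐ[k] Fld (Fin n) (IntermediateField.fixedField G)) (Φ b)
        ∈ (IntermediateField.adjoin k (Set.range w)).map
          (Φ.symm : Fld (Fin m) F →ₐ[k] Fld (Fin n) (IntermediateField.fixedField G)) :=
      ⟨Φ b, h1, rfl⟩
    rw [IntermediateField.adjoin_map] at h2
    have h3 : (Φ.symm : Fld (Fin m) F →ₐ[k] Fld (Fin n) (IntermediateField.fixedField G)) (Φ b) = b :=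
      Φ.symm_apply_apply b
    rw [h3] at h2
    refine IntermediateField.adjoin.mono k _ _ ?_ h2
    rintro _ ⟨_, ⟨s, rfl⟩, rfl⟩
    exact ⟨finSumFinEquiv s, by simp⟩

end Groth.Agent.Lib.Helper6.NoName
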